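import Mathlib.Algebra.Group.Subgroup.Basic
import Mathlib.Algebra.Exact.Basic
import Mathlib.Tactic.Abel

/-!
# The long exact sequence of a map of long exact sequences with bijective first terms
-/

set_option autoImplicit false

universe u

namespace Groth.Agent.H15Site.BlowSquare

variable {G F Q G₁ F₁ G' F' Q' G₁' F₁' Q₁ : Type u} [AddCommGroup G] [AddCommGroup F] [AddCommGroup Q]
  [AddCommGroup G₁] [AddCommGroup F₁] [AddCommGroup G'] [AddCommGroup F'] [AddCommGroup Q']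
  [AddCommGroup G₁'] [AddCommGroup F₁'] [AddCommGroup Q₁]
  (ι : G →+ F) (p : F →+ Q) (d : Q →+ G₁) (ι₁ : G₁ →+ F₁) (p₁ : F₁ →+ Q₁)
  (ι' : G' →+ F') (p' : F' →+ Q') (d' : Q' →+ G₁') (ι₁' : G₁' →+ F₁')
  (βG : G ≃+ G') (βF : F →+ F') (βQ : Q →+ Q') (βG₁ : G₁ ≃+ G₁') (βF₁ : F₁ →+ F₁')

/-- Exactness of `F → F' × Q → Q'`. -/
theorem exact_pair (hιp : Function.Exact ι p) (hpd : Function.Exact p d) (hιp' : Function.Exact ι' p')
    (hpd' : Function.Exact p' d') (c₁ : ∀ g, βF (ι g) = ι' (βG g)) (c₂ : ∀ e, βQ (p e) = p' (βF e))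
    (c₃ : ∀ y, βG₁ (d y) = d' (βQ y)) :
    Function.Exact (fun e => (βF e, p e)) (fun uv : F' × Q => p' uv.1 - βQ uv.2) := by
  rintro ⟨x, y⟩
  constructor
  · intro h
    have h : p' x - βQ y = 0 := h
    rw [sub_eq_zero] at h
    have hy : d y = 0 := βG₁.injective (by
      rw [c₃, ← h, map_zero]
      exact hpd'.apply_apply_eq_zero x)
    obtain ⟨e₀, he₀⟩ := (hpd y).1 hy
    obtain ⟨g', hg'⟩ := (hιp' (x - βF e₀)).1 (by rw [map_sub, ← c₂, he₀, h, sub_self])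
    refine ⟨e₀ + ι (βG.symm g'), Prod.ext ?_ ?_⟩
    · show βF _ = x
      rw [map_add, c₁, βG.apply_symm_apply, hg']
      abel
    · show p _ = y
      rw [map_add, hιp.apply_apply_eq_zero, add_zero, he₀]
  · rintro ⟨e, he⟩
    have h1 : βF e = x := congrArg Prod.fst he
    have h2 : p e = y := congrArg Prod.snd he
    show p' x - βQ y = 0
    rw [← h1, ← h2, c₂, sub_self]

/-- The connecting map. -/
def conn : Q' →+ F₁ := ι₁.comp (βG₁.symm.toAddMonoidHom.comp d')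

/-- Exactness of `F' × Q → Q' → F₁`. -/
theorem exact_conn (hdι : Function.Exact d ι₁) (hpd' : Function.Exact p' d')
    (c₃ : ∀ y, βG₁ (d y) = d' (βQ y)) :
    Function.Exact (fun uv : F' × Q => p' uv.1 - βQ uv.2) (conn ι₁ d' βG₁) := by
  intro w
  show ι₁ (βG₁.symm (d' w)) = 0 ↔ _
  constructor
  · intro h
    obtain ⟨y, hy⟩ := (hdι _).1 h
    obtain ⟨x, hx⟩ := (hpd' (w - βQ y)).1 (by
      rw [map_sub, ← c₃, hy, βG₁.apply_symm_apply, sub_self])
    refine ⟨(x, -y), ?_⟩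
    show p' x - βQ (-y) = w
    rw [hx, map_neg]
    abel
  · rintro ⟨⟨x, y⟩, rfl⟩
    show ι₁ (βG₁.symm (d' (p' x - βQ y))) = 0
    rw [map_sub, hpd'.apply_apply_eq_zero, zero_sub, ← c₃, map_neg, βG₁.symm_apply_apply, map_neg,
      hdι.apply_apply_eq_zero, neg_zero]

/-- Exactness of `Q' → F₁ → F₁' × Q₁`. -/
theorem exact_next (hιp₁ : Function.Exact ι₁ p₁) (hdι' : Function.Exact d' ι₁')
    (c₁ : ∀ g, βF₁ (ι₁ g) = ι₁' (βG₁ g)) :
    Function.Exact (conn ι₁ d' βG₁) (fun e => (βF₁ e, p₁ e)) := by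
  intro e
  constructor
  · intro h
    have h1 : βF₁ e = 0 := congrArg Prod.fst h
    have h2 : p₁ e = 0 := congrArg Prod.snd h
    obtain ⟨g, rfl⟩ := (hιp₁ e).1 h2
    obtain ⟨w, hw⟩ := (hdι' _).1 ((c₁ g).symm.trans h1)
    refine ⟨w, ?_⟩
    show ι₁ (βG₁.symm (d' w)) = _
    rw [hw, βG₁.symm_apply_apply]
  · rintro ⟨w, rfl⟩
    show (βF₁ (ι₁ _), p₁ (ι₁ _)) = 0
    rw [c₁, hιp₁.apply_apply_eq_zero]
    show (ι₁' (βG₁ (βG₁.symm (d' w))), (0 : Q₁)) = 0
    rw [βG₁.apply_symm_apply, hdι'.apply_apply_eq_zero]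
    rfl

/-- Injectivity at the start. -/
theorem injective_pair (hιp : Function.Exact ι p) (hι' : Function.Injective ι')
    (c₁ : ∀ g, βF (ι g) = ι' (βG g)) : Function.Injective (fun e => (βF e, p e)) := by
  intro a b h
  have h1 : βF a = βF b := congrArg Prod.fst h
  have h2 : p a = p b := congrArg Prod.snd h
  obtain ⟨g, hg⟩ := (hιp (a - b)).1 (by rw [map_sub, h2, sub_self])
  have h0 : βG g = 0 := hι' (by rw [← c₁, hg, map_sub, h1, sub_self, map_zero])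
  rw [← sub_eq_zero, ← hg, βG.injective (h0.trans (map_zero βG).symm), map_zero]

end Groth.Agent.H15Site.BlowSquare
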