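import Groth.Agent.H15Site.BlowSquare.UnitIso
import Groth.Agent.H15Site.Shriek.CdProper
import Groth.Agent.H1DFun.AcycEdge
import Groth.Agent.H1DFun.PushClass

/-!
# Pullback along a proper morphism of classes supported where it is an isomorphism

Let `b : Y ⟶ X` be proper and an isomorphism over the open `U`.
For a torsion sheaf on `X` whose stalks outside `U` vanish the pullback on cohomology is bijective,
given base change on stalks.
-/

set_option autoImplicit false
set_option linter.style.haveILetI false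
set_option linter.unusedSectionVars false
set_option backward.isDefEq.respectTransparency false
set_option backward.isDefEq.respectTransparency.types false

universe u

open CategoryTheory CategoryTheory.Limits AlgebraicGeometry Opposite Abelian
open Groth.Agent.H18Et Groth.Agent.H1Lim
open scoped Groth.Agent.H18Et

namespace Groth.Agent.H15Site.BlowSquare

attribute [local instance] Groth.Agent.H18Et.pull_preservesFiniteLimits

theorem subsingleton_H_of_isZero {W : Scheme.{u}} {F : EtCoh.Ab W} (hF : IsZero F) (n : ℕ) :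
    Subsingleton (EtCoh.H W F n) :=
  subsingleton_of_forall_eq 0 fun x => by
    rw [← Ext.comp_mk₀_id x, hF.eq_of_tgt (𝟙 F) 0, Ext.mk₀_zero, Ext.comp_zero]

/-- A scheme isomorphic to the spectrum of a separably closed field has no higher cohomology. -/
theorem subsingleton_H_isoSpec {Ω : Type u} [Field Ω] [IsSepClosed Ω] {W : Scheme.{u}}
    (s : W ⟶ Spec (CommRingCat.of Ω)) [IsIso s] (F : EtCoh.Ab W) (hF : EtCoh.IsTorsion F) (q : ℕ) (hq : 0 < q) :
    Subsingleton (EtCoh.H W F q) := by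
  have hd : topologicalKrullDim ↥W ≤ ((0 : ℕ) : WithBot ℕ∞) := by
    rw [s.homeomorph.isHomeomorph.topologicalKrullDim_eq]
    show topologicalKrullDim (PrimeSpectrum Ω) ≤ _
    rw [PrimeSpectrum.topologicalKrullDim_eq_ringKrullDim, ringKrullDim_eq_zero_of_field]
    exact le_rfl
  exact H18RelCd.cohDimLE_of_dim_le s hd F hF q (by omega)

variable (hbc : Shriek.StalkBC.{u}) {X Y : Scheme.{u}} (b : Y ⟶ X) [IsProper b] (U : X.Opens) [IsIso (b ∣_ U)]

/-- The fibre over a point of `U` is a point. -/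
theorem isIso_fibre_of_mem {Ω : Type u} [Field Ω] (ξ : Spec (CommRingCat.of Ω) ⟶ X) (hξ : ξ default ∈ U) :
    IsIso (pullback.snd b ξ) := by
  have hr : Set.range ξ ⊆ Set.range U.ι := by
    rintro _ ⟨x, rfl⟩
    rw [U.range_ι, Subsingleton.elim x default]
    exact hξ
  haveI : IsIso (pullback.snd b U.ι) := by
    have e : pullback.snd b U.ι = (pullbackRestrictIsoRestrict b U).hom ≫ (b ∣_ U) :=
      (Iso.hom_inv_id_assoc _ _).symm
    rw [e]
    infer_instance
  rw [← IsOpenImmersion.lift_fac U.ι ξ hr,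
    show pullback.snd b (IsOpenImmersion.lift U.ι ξ hr ≫ U.ι) =
      (pullbackLeftPullbackSndIso b U.ι (IsOpenImmersion.lift U.ι ξ hr)).inv ≫ pullback.snd _ _ from
      (pullbackLeftPullbackSndIso_inv_snd_snd b U.ι _).symm]
  infer_instance

theorem isZero_fibre (G : EtCoh.Ab X)
    (hsupp : ∀ (Ω : Type u) [Field Ω] [IsSepClosed Ω] (ξ : Spec (CommRingCat.of Ω) ⟶ X), ξ default ∉ U →
      Subsingleton ((EtCoh.stalk ξ).obj G))
    {Ω : Type u} [Field Ω] [IsSepClosed Ω] (ξ : Spec (CommRingCat.of Ω) ⟶ X) (hξ : ξ default ∉ U) :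
    IsZero ((EtCoh.pull (pullback.fst b ξ)).obj ((EtCoh.pull b).obj G)) := by
  rw [H18Et.isZero_iff_stalk]
  intro Ω' _ _ ζ
  have hpt : ((ζ ≫ pullback.fst b ξ) ≫ b) default ∉ U := by
    rw [Category.assoc, pullback.condition, ← Category.assoc, Scheme.Hom.comp_apply,
      Subsingleton.elim ((ζ ≫ pullback.snd b ξ) default) default]
    exact hξ
  haveI := hsupp Ω' _ hpt
  exact ((AddCommGrpCat.isZero_of_subsingleton _).of_iso
    (((stalkPullIso b (ζ ≫ pullback.fst b ξ)).app G))).of_iso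
      ((stalkPullIso (pullback.fst b ξ) ζ).app ((EtCoh.pull b).obj G))

include hbc in
theorem isZero_Rpush_of_supp (G : EtCoh.Ab X) (hG : EtCoh.IsTorsion G)
    (hsupp : ∀ (Ω : Type u) [Field Ω] [IsSepClosed Ω] (ξ : Spec (CommRingCat.of Ω) ⟶ X), ξ default ∉ U →
      Subsingleton ((EtCoh.stalk ξ).obj G)) (q : ℕ) (hq : 1 ≤ q) :
    IsZero ((EtCoh.Rpush b q).obj ((EtCoh.pull b).obj G)) := by
  refine H1DFun.isZero_of_stalks _ fun Ω _ _ ξ => ?_
  have hT := H18Et.Coh.isTorsion_pull b G hG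
  obtain ⟨e⟩ := hbc b ξ _ hT q
  suffices h : Subsingleton (EtCoh.H (pullback b ξ)
      ((EtCoh.pull (pullback.fst b ξ)).obj ((EtCoh.pull b).obj G)) q) from
    @Equiv.subsingleton _ _ e.addCommGroupIsoToAddEquiv.toEquiv h
  by_cases hξ : ξ default ∈ U
  · haveI := isIso_fibre_of_mem b U ξ hξ
    exact subsingleton_H_isoSpec (pullback.snd b ξ) _ (H18Et.Coh.isTorsion_pull _ _ hT) q hq
  · exact subsingleton_H_of_isZero (isZero_fibre b U G hsupp ξ hξ) q

include hbc in
theorem isIso_unit_of_supp (G : EtCoh.Ab X) (hG : EtCoh.IsTorsion G)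
    (hsupp : ∀ (Ω : Type u) [Field Ω] [IsSepClosed Ω] (ξ : Spec (CommRingCat.of Ω) ⟶ X), ξ default ∉ U →
      Subsingleton ((EtCoh.stalk ξ).obj G)) :
    IsIso ((EtCoh.pullPushAdj b).unit.app G) := by
  refine H18Et.isIso_of_stalk _ fun x => ?_
  by_cases hx : x ∈ U
  · obtain ⟨z, hz⟩ := (b ∣_ U).surjective ⟨x, hx⟩
    have hzx : b ((b ⁻¹ᵁ U).ι z) = x := by
      rw [← Scheme.Hom.comp_apply, ← morphismRestrict_ι, Scheme.Hom.comp_apply, hz]
      rfl
    haveI : IsOpenImmersion ((b ⁻¹ᵁ U).ι ≫ b) := by rw [← morphismRestrict_ι]; infer_instance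
    have hU : ∀ y y' : Y, y' ∈ b ⁻¹ᵁ U → b y = b y' → y = y' := fun y y' hy' e => by
      have hy : y ∈ b ⁻¹ᵁ U := show b y ∈ U by rw [e]; exact hy'
      have := (b ∣_ U).homeomorph.injective (a₁ := ⟨y, hy⟩) (a₂ := ⟨y', hy'⟩) (Subtype.ext (by
        show U.ι ((b ∣_ U) ⟨y, hy⟩) = U.ι ((b ∣_ U) ⟨y', hy'⟩)
        rw [← Scheme.Hom.comp_apply, ← Scheme.Hom.comp_apply, morphismRestrict_ι]
        exact e))
      exact congrArg Subtype.val this
    subst hzx
    exact ⟨_, _, SeparableClosure.isSepClosed _, geomPt ((b ⁻¹ᵁ U).ι z) ≫ b, geomPt_comp_base b _,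
      bijective_stalk_unit_of_openOver b (b ⁻¹ᵁ U) hU (geomPt ((b ⁻¹ᵁ U).ι z))
        (by rw [geomPt_base]; exact z.2) G⟩
  · refine ⟨_, _, SeparableClosure.isSepClosed _, geomPt x, geomPt_base x, ?_⟩
    have hξ : geomPt x default ∉ U := by rwa [geomPt_base]
    haveI h1 := hsupp _ (geomPt x) hξ
    obtain ⟨e⟩ := hbc b (geomPt x) _ (H18Et.Coh.isTorsion_pull b G hG) 0
    have h0 : Subsingleton ((EtCoh.stalk (geomPt x)).obj ((EtCoh.Rpush b 0).obj ((EtCoh.pull b).obj G))) :=
      @Equiv.subsingleton _ _ e.addCommGroupIsoToAddEquiv.toEquiv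
        (subsingleton_H_of_isZero (isZero_fibre b U G hsupp (geomPt x) hξ) 0)
    haveI h2 : Subsingleton ((EtCoh.stalk (geomPt x)).obj ((EtCoh.push b).obj ((EtCoh.pull b).obj G))) :=
      @Equiv.subsingleton _ _ ((EtCoh.stalk (geomPt x)).mapIso
        ((EtCoh.push b).rightDerivedZeroIsoSelf.app _)).addCommGroupIsoToAddEquiv.symm.toEquiv h0
    exact ⟨fun p p' _ => h1.elim p p', fun p => ⟨0, h2.elim _ _⟩⟩

include hbc in
/-- Classes supported where `b` is an isomorphism pull back bijectively. -/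
theorem bijective_hpull_of_supp (G : EtCoh.Ab X) (hG : EtCoh.IsTorsion G)
    (hsupp : ∀ (Ω : Type u) [Field Ω] [IsSepClosed Ω] (ξ : Spec (CommRingCat.of Ω) ⟶ X), ξ default ∉ U →
      Subsingleton ((EtCoh.stalk ξ).obj G)) (q : ℕ) :
    Function.Bijective (hpull b G q) := by
  haveI := isIso_unit_of_supp hbc b U G hG hsupp
  have he := H1DFun.edge_of_vanishing (EtCoh.pullPushAdj b) (EtCoh.const X ℤ) q ((EtCoh.pull b).obj G)
    (fun n hn _ => isZero_Rpush_of_supp hbc b U G hG hsupp n hn)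
  have b3 : Function.Bijective fun z : Ext ((EtCoh.pull b).obj (EtCoh.const X ℤ)) ((EtCoh.pull b).obj G) q =>
      (Ext.mk₀ (EtCore.pullConst b ℤ).inv).comp z (zero_add q) :=
    ⟨Function.LeftInverse.injective (g := fun w => (Ext.mk₀ (EtCore.pullConst b ℤ).hom).comp w (zero_add q))
      (fun z => by simp only [Ext.mk₀_comp_mk₀_assoc, Iso.hom_inv_id, Ext.mk₀_id_comp]),
     Function.RightInverse.surjective (g := fun w => (Ext.mk₀ (EtCore.pullConst b ℤ).hom).comp w (zero_add q))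
      (fun z => by simp only [Ext.mk₀_comp_mk₀_assoc, Iso.inv_hom_id, Ext.mk₀_id_comp])⟩
  refine (congrArg Function.Bijective (funext fun x => ?_)).mp
    (b3.comp ((he.1 q le_rfl).comp (H1DFun.postcomp_iso_bijective _ ((EtCoh.pullPushAdj b).unit.app G) q)))
  exact (congrArg (fun z => (Ext.mk₀ (EtCore.pullConst b ℤ).inv).comp z (zero_add q))
    (H1DFun.edge_unit (EtCoh.pullPushAdj b) _ G q x)).trans (hpull_def b G q x).symm

end Groth.Agent.H15Site.BlowSquare
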