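import Groth.Agent.H15Site.BlowSquare.Algebra
import Groth.Agent.H15Site.BlowSquare.Fibre
import Groth.Agent.H1DFun.ClosedPair
import Groth.Agent.H1DFun.ClosedVanish
import Groth.Agent.H26Blow.Proper
import Groth.Agent.H29Blow.Basic

/-!
# The long exact sequence of the square of a blowing up
-/

set_option autoImplicit false
set_option linter.style.haveILetI false
set_option linter.unusedSectionVars false
set_option backward.isDefEq.respectTransparency false
set_option backward.isDefEq.respectTransparency.types false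

universe u

open CategoryTheory CategoryTheory.Limits AlgebraicGeometry Opposite Abelian
open Groth.Agent.H18Et Groth.Agent.H1Lim
open scoped Groth.Agent.H18Et

namespace Groth.Agent.H15Site.BlowSquare

attribute [local instance] Groth.Agent.H18Et.pull_preservesFiniteLimits

section Seq

variable {W : Scheme.{u}} {S : ShortComplex (EtCoh.Ab W)} (hS : S.ShortExact)

/-- The connecting map of a short exact sequence. -/
noncomputable def delta (p : ℕ) : Sheaf.H S.X₃ p →+ Sheaf.H S.X₁ (p + 1) :=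
  AddMonoidHom.mk' (fun y => y.comp hS.extClass rfl) fun _ _ => Ext.add_comp _ _ _ _

include hS in
theorem exact_H₂ (p : ℕ) : Function.Exact (Sheaf.H.map S.f p) (Sheaf.H.map S.g p) := by
  intro y
  constructor
  · intro h
    rw [Sheaf.H.map_apply] at h
    obtain ⟨x, hx⟩ := Ext.covariant_sequence_exact₂ _ hS y h
    exact ⟨x, (Sheaf.H.map_apply _ _).trans hx⟩
  · rintro ⟨x, rfl⟩
    rw [← Sheaf.H.map_comp_apply, S.zero, Sheaf.H.map_apply, Ext.mk₀_zero, Ext.comp_zero]

theorem exact_H₃ (p : ℕ) : Function.Exact (Sheaf.H.map S.g p) (delta hS p) := by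
  intro y
  constructor
  · intro h
    obtain ⟨x, hx⟩ := Ext.covariant_sequence_exact₃ _ hS y rfl h
    exact ⟨x, (Sheaf.H.map_apply _ _).trans hx⟩
  · rintro ⟨x, rfl⟩
    show Ext.comp _ hS.extClass rfl = 0
    rw [Sheaf.H.map_apply, Ext.comp_assoc_of_second_deg_zero, hS.comp_extClass, Ext.comp_zero]

theorem exact_H₁ (p : ℕ) : Function.Exact (delta hS p) (Sheaf.H.map S.f (p + 1)) := by
  intro y
  constructor
  · intro h
    rw [Sheaf.H.map_apply] at h
    exact Ext.covariant_sequence_exact₁ _ hS y h rfl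
  · rintro ⟨x, rfl⟩
    show Sheaf.H.map S.f (p + 1) (Ext.comp x hS.extClass rfl) = 0
    rw [Sheaf.H.map_apply, Ext.comp_assoc_of_third_deg_zero, hS.extClass_comp, Ext.comp_zero]

include hS in
theorem injective_H₀ : Function.Injective (Sheaf.H.map S.f 0) := by
  haveI := hS.mono_f
  intro x y h
  obtain ⟨x, rfl⟩ := (Ext.mk₀_bijective _ _).2 x
  obtain ⟨y, rfl⟩ := (Ext.mk₀_bijective _ _).2 y
  rw [Sheaf.H.map_apply, Sheaf.H.map_apply, Ext.mk₀_comp_mk₀, Ext.mk₀_comp_mk₀] at h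
  rw [(cancel_mono S.f).1 ((Ext.mk₀_bijective _ _).1 h)]

end Seq

theorem bijective_map {W : Scheme.{u}} {A B : EtCoh.Ab W} (f : A ⟶ B) [IsIso f] (p : ℕ) :
    Function.Bijective (Sheaf.H.map f p) :=
  ⟨H_map_injective (asIso f) p, fun y => ⟨_, H_map_inv_hom (asIso f) p y⟩⟩

theorem map_map_inv {W : Scheme.{u}} {A B : EtCoh.Ab W} (f : A ⟶ B) [IsIso f] (p : ℕ) (y : Sheaf.H B p) :
    Sheaf.H.map f p (Sheaf.H.map (inv f) p y) = y :=
  H_map_inv_hom (asIso f) p y

/-- Naturality of the relative pullback. -/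
theorem hpullVia_map {X Y W : Scheme.{u}} (f : W ⟶ Y) (g : Y ⟶ X) (h : W ⟶ X) (w : f ≫ g = h)
    [PreservesFiniteLimits (EtCoh.pull f)] {A B : EtCoh.Ab X} (φ : A ⟶ B) (p : ℕ)
    (v : Sheaf.H ((EtCoh.pull g).obj A) p) :
    EtCore.HpullVia f g h w B p (Sheaf.H.map ((EtCoh.pull g).map φ) p v) =
      Sheaf.H.map ((EtCoh.pull h).map φ) p (EtCore.HpullVia f g h w A p v) := by
  rw [HpullVia_def, HpullVia_def, Hpull_map]
  refine ((H_map_comp₀ _ _ _).symm.trans ?_).trans (H_map_comp₀ _ _ _)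
  exact congrArg (fun k => Sheaf.H.map k p (hpull f _ p v)) ((viaIso f g h w).hom.naturality φ)

theorem subsingleton_stalk_pull_supp {X Y : Scheme.{u}} (b : Y ⟶ X) (P : EtCoh.Ab X) (C : Set X)
    (hP : ∀ (Ω : Type u) [Field Ω] [IsSepClosed Ω] (ξ : Spec (CommRingCat.of Ω) ⟶ X), ξ default ∉ C →
      Subsingleton ((EtCoh.stalk ξ).obj P))
    {Ω : Type u} [Field Ω] [IsSepClosed Ω] (η : Spec (CommRingCat.of Ω) ⟶ Y) (h : b (η default) ∉ C) :
    Subsingleton ((EtCoh.stalk η).obj ((EtCoh.pull b).obj P)) :=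
  @Equiv.subsingleton _ _ ((stalkPullIso b η).app P).addCommGroupIsoToAddEquiv.toEquiv
    (hP Ω (η ≫ b) (by rwa [Scheme.Hom.comp_apply]))

/-- The unit of a closed immersion is invertible on a sheaf with support in it. -/
theorem isIso_unit_of_closed_supp {Y E : Scheme.{u}} (j : E ⟶ Y) [IsClosedImmersion j] (M : EtCoh.Ab Y)
    (hM : ∀ (Ω : Type u) [Field Ω] [IsSepClosed Ω] (η : Spec (CommRingCat.of Ω) ⟶ Y), η default ∉ Set.range j →
      Subsingleton ((EtCoh.stalk η).obj M)) :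
    IsIso ((EtCoh.pullPushAdj j).unit.app M) := by
  refine H18Et.isIso_of_stalk _ fun y => ?_
  by_cases hy : y ∈ Set.range j
  · obtain ⟨z, rfl⟩ := hy
    exact ⟨_, _, SeparableClosure.isSepClosed _, geomPt z ≫ j, geomPt_comp_base j z,
      H1DFun.stalk_unit_bijective j M (geomPt z)⟩
  · refine ⟨_, _, SeparableClosure.isSepClosed _, geomPt y, geomPt_base y, ?_⟩
    haveI h1 := hM _ (geomPt y) (by rwa [geomPt_base])
    haveI h2 := subsingleton_stalk_push j j.isClosedEmbedding.isClosed_range ((EtCoh.pull j).obj M) (geomPt y)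
      (by rwa [geomPt_base])
    exact ⟨fun p p' _ => h1.elim p p', fun p => ⟨0, h2.elim _ _⟩⟩

theorem bijective_hpull_of_closed_supp {Y E : Scheme.{u}} (j : E ⟶ Y) [IsClosedImmersion j] (M : EtCoh.Ab Y)
    [IsIso ((EtCoh.pullPushAdj j).unit.app M)] (q : ℕ) : Function.Bijective (hpull j M q) := by
  refine (congrArg Function.Bijective (funext fun x => ?_)).mp
    (H1DFun.hpull_map_bijective j ((EtCoh.pullPushAdj j).unit.app M) q)
  exact (congrArg (fun k => Sheaf.H.map k q (hpull j M q x))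
    ((EtCoh.pullPushAdj j).left_triangle_components M)).trans (Sheaf.H.map_id_apply _)

theorem exists_lift_closed {X Z : Scheme.{u}} (i : Z ⟶ X) [IsClosedImmersion i] {Ω : Type u} [Field Ω]
    (ξ : Spec (CommRingCat.of Ω) ⟶ X) (h : Set.range ξ ⊆ Set.range i) : ∃ ζ, ζ ≫ i = ξ := by
  haveI : IsClosedImmersion (pullback.snd i ξ) := inferInstance
  haveI : Surjective (pullback.snd i ξ) := ⟨fun x => by
    rw [← Set.mem_range, Scheme.Pullback.range_snd]
    exact h ⟨x, rfl⟩⟩
  haveI : IsIso (pullback.snd i ξ) := isIso_of_isClosedImmersion_of_surjective (pullback.snd i ξ)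
  exact ⟨inv (pullback.snd i ξ) ≫ pullback.fst i ξ, by
    rw [Category.assoc, pullback.condition, IsIso.inv_hom_id_assoc]⟩

theorem isIso_pull_map {X W : Scheme.{u}} (f : W ⟶ X) {A B : EtCoh.Ab X} (φ : A ⟶ B)
    (h : ∀ (Ω : Type u) [Field Ω] [IsSepClosed Ω] (ζ : Spec (CommRingCat.of Ω) ⟶ W),
      Function.Bijective ((EtCoh.stalk (ζ ≫ f)).map φ)) : IsIso ((EtCoh.pull f).map φ) := by
  refine H18Et.isIso_of_stalk _ fun y => ⟨_, _, SeparableClosure.isSepClosed _, geomPt y, geomPt_base y, ?_⟩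
  haveI : IsIso ((EtCoh.stalk (geomPt y ≫ f)).map φ) :=
    (ConcreteCategory.isIso_iff_bijective _).2 (h _ (geomPt y))
  exact (ConcreteCategory.isIso_iff_bijective _).1
    ((NatIso.isIso_map_iff (stalkPullIso f (geomPt y)) φ).2 ‹_›)

theorem range_fst_eq {X Y Z E : Scheme.{u}} {b : Y ⟶ X} {i : Z ⟶ X} {j : E ⟶ Y} {π : E ⟶ Z}
    (sq : IsPullback j π b i) : Set.range j = Set.range (pullback.fst b i) := by
  rw [← sq.isoPullback_hom_fst]
  exact (sq.isoPullback.hom.surjective.range_comp _)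

set_option maxHeartbeats 800000 in
/-- The long exact sequence of a closed immersion `i` and a proper morphism invertible outside it. -/
theorem exists_longExact (hbc : Shriek.StalkBC.{u}) {X Y Z E : Scheme.{u}} (b : Y ⟶ X) [IsProper b] (i : Z ⟶ X)
    [IsClosedImmersion i] (j : E ⟶ Y) (π : E ⟶ Z) (c : E ⟶ X) (sq : IsPullback j π b i) (hc : j ≫ b = c)
    (hc' : π ≫ i = c) (U : X.Opens) (hU : ∀ x : X, x ∈ U ↔ x ∉ Set.range i) [IsIso (b ∣_ U)]
    (F : EtCoh.Ab X) (hF : EtCoh.IsTorsion F) :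
    ∃ δ : ∀ p : ℕ, EtCoh.H E ((EtCoh.pull c).obj F) p →+ EtCoh.H X F (p + 1),
      Function.Injective (fun e : EtCoh.H X F 0 => (EtCore.Hpull b F 0 e, EtCore.Hpull i F 0 e)) ∧
      ∀ p : ℕ,
        Function.Exact
          (fun e : EtCoh.H X F p => (EtCore.Hpull b F p e, EtCore.Hpull i F p e))
          (fun uv : EtCoh.H Y ((EtCoh.pull b).obj F) p × EtCoh.H Z ((EtCoh.pull i).obj F) p =>
            EtCore.HpullVia j b c hc F p uv.1 - EtCore.HpullVia π i c hc' F p uv.2) ∧
        Function.Exact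
          (fun uv : EtCoh.H Y ((EtCoh.pull b).obj F) p × EtCoh.H Z ((EtCoh.pull i).obj F) p =>
            EtCore.HpullVia j b c hc F p uv.1 - EtCore.HpullVia π i c hc' F p uv.2) (δ p) ∧
        Function.Exact (δ p)
          (fun e : EtCoh.H X F (p + 1) => (EtCore.Hpull b F (p + 1) e, EtCore.Hpull i F (p + 1) e)) := by
  haveI : IsClosedImmersion j := MorphismProperty.of_isPullback sq.flip inferInstance
  let u := (EtCoh.pullPushAdj i).unit.app F
  let P := (EtCoh.push i).obj ((EtCoh.pull i).obj F)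
  let S : ShortComplex (EtCoh.Ab X) := ShortComplex.mk (kernel.ι u) u (kernel.condition u)
  have hPsupp : ∀ (Ω : Type u) [Field Ω] [IsSepClosed Ω] (ξ : Spec (CommRingCat.of Ω) ⟶ X),
      ξ default ∉ Set.range i → Subsingleton ((EtCoh.stalk ξ).obj P) := fun Ω _ _ ξ h =>
    subsingleton_stalk_push i i.isClosedEmbedding.isClosed_range _ ξ h
  have hGsupp : ∀ (Ω : Type u) [Field Ω] [IsSepClosed Ω] (ξ : Spec (CommRingCat.of Ω) ⟶ X),
      ξ default ∉ U → Subsingleton ((EtCoh.stalk ξ).obj (kernel u)) := fun Ω _ _ ξ h => by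
    obtain ⟨z, hz⟩ := not_not.1 ((hU _).not.1 h)
    have hr : Set.range ξ ⊆ Set.range i := by
      rintro _ ⟨w, rfl⟩
      exact ⟨z, hz.trans (congrArg _ (Subsingleton.elim _ w))⟩
    obtain ⟨ζ, rfl⟩ : ∃ ζ, ζ ≫ i = ξ := exists_lift_closed i ξ hr
    exact H1DFun.subsingleton_stalk_kernel u _ (H1DFun.stalk_unit_bijective i F ζ).1
  have hG : EtCoh.IsTorsion (kernel u) := by
    rw [H18Et.Coh.isTorsion_iff_stalk] at hF ⊢
    intro Ω _ _ ξ p
    obtain ⟨n, hn, hp⟩ := isOfFinAddOrder_iff_nsmul_eq_zero.1 (hF Ω ξ ((EtCoh.stalk ξ).map (kernel.ι u) p))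
    refine isOfFinAddOrder_iff_nsmul_eq_zero.2 ⟨n, hn, (H1DFun.stalk_kernel u ξ).1 ?_⟩
    rw [map_nsmul, hp, map_zero]
  haveI : Epi u := by
    refine H18Et.epi_of_stalk _ fun z => ?_
    by_cases hz : z ∈ Set.range i
    · obtain ⟨y, rfl⟩ := hz
      exact ⟨_, _, SeparableClosure.isSepClosed _, geomPt y ≫ i, geomPt_comp_base i y,
        (H1DFun.stalk_unit_bijective i F (geomPt y)).2⟩
    · refine ⟨_, _, SeparableClosure.isSepClosed _, geomPt z, geomPt_base z, ?_⟩
      have := hPsupp _ (geomPt z) (by rwa [geomPt_base])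
      exact fun p => ⟨0, this.elim _ _⟩
  have hS : S.ShortExact :=
    ShortComplex.ShortExact.mk' (ShortComplex.exact_of_f_is_kernel _ (kernelIsKernel u)) inferInstance ‹_›
  have hS' := hS.map_of_exact (EtCoh.pull b)
  haveI : IsIso ((EtCoh.pull i).map u) := isIso_pull_map i u fun Ω _ _ ζ => H1DFun.stalk_unit_bijective i F ζ
  haveI : IsIso ((EtCoh.pull c).map u) := isIso_pull_map c u fun Ω _ _ ζ => by
    rw [← hc', ← Category.assoc]
    exact H1DFun.stalk_unit_bijective i F (ζ ≫ π)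
  haveI : IsIso ((EtCoh.pullPushAdj i).unit.app P) := isIso_unit_of_closed_supp i P hPsupp
  haveI : IsIso ((EtCoh.pullPushAdj j).unit.app ((EtCoh.pull b).obj P)) :=
    isIso_unit_of_closed_supp j _ fun Ω _ _ η hη =>
      subsingleton_stalk_pull_supp b P (Set.range i) hPsupp η fun hb => hη (by
        have : η default ∈ b ⁻¹' Set.range i := hb
        rwa [← Scheme.Pullback.range_fst, ← range_fst_eq sq] at this)
  have hTE : ∀ p, Function.Bijective ((Sheaf.H.map (inv ((EtCoh.pull c).map u)) p).comp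
      (EtCore.HpullVia j b c hc P p)) := fun p => by
    refine (bijective_map (inv ((EtCoh.pull c).map u)) p).comp ?_
    refine (congrArg Function.Bijective (funext fun y => HpullVia_def j b c hc P p y)).mpr ?_
    exact (bijective_map _ p).comp (bijective_hpull_of_closed_supp j _ p)
  let TZ : ∀ p, Sheaf.H P p ≃+ Sheaf.H ((EtCoh.pull i).obj F) p := fun p =>
    AddEquiv.ofBijective ((Sheaf.H.map (inv ((EtCoh.pull i).map u)) p).comp (hpull i P p))
      ((bijective_map _ p).comp (bijective_hpull_of_closed_supp i P p))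
  let TE : ∀ p, Sheaf.H ((EtCoh.pull b).obj P) p ≃+ Sheaf.H ((EtCoh.pull c).obj F) p := fun p =>
    AddEquiv.ofBijective _ (hTE p)
  let βG : ∀ p, Sheaf.H (kernel u) p ≃+ Sheaf.H ((EtCoh.pull b).obj (kernel u)) p := fun p =>
    AddEquiv.ofBijective (hpull b (kernel u) p) (bijective_hpull_of_supp hbc b U (kernel u) hG hGsupp p)
  -- comparisons
  have hZ : ∀ p (e : Sheaf.H F p), TZ p (Sheaf.H.map u p e) = hpull i F p e := fun p e => by
    refine (bijective_map ((EtCoh.pull i).map u) p).1 ?_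
    refine (map_map_inv _ _ _).trans ?_
    exact Hpull_map i u p e
  have hE : ∀ p (e : Sheaf.H ((EtCoh.pull b).obj F) p),
      TE p (Sheaf.H.map ((EtCoh.pull b).map u) p e) = EtCore.HpullVia j b c hc F p e := fun p e => by
    refine (bijective_map ((EtCoh.pull c).map u) p).1 ?_
    exact (map_map_inv _ _ _).trans (hpullVia_map j b c hc u p e)
  have hEZ : ∀ p (w : Sheaf.H P p), EtCore.HpullVia π i c hc' F p (TZ p w) = TE p (hpull b P p w) := fun p w => by
    refine (bijective_map ((EtCoh.pull c).map u) p).1 ?_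
    refine ((hpullVia_map π i c hc' u p _).symm.trans ?_).trans (map_map_inv _ _ _).symm
    refine (congrArg (EtCore.HpullVia π i c hc' P p) (map_map_inv _ _ _)).trans ?_
    exact (H1DFun.hpullVia_eq π i c hc' P p w).trans (H1DFun.hpullVia_eq j b c hc P p w).symm
  have c₁ : ∀ p (g : Sheaf.H (kernel u) p), hpull b F p (Sheaf.H.map S.f p g) =
      Sheaf.H.map (S.map (EtCoh.pull b)).f p (βG p g) := fun p g => Hpull_map b (kernel.ι u) p g
  have c₂ : ∀ p (e : Sheaf.H F p), EtCore.HpullVia π i c hc' F p (hpull i F p e) =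
      EtCore.HpullVia j b c hc F p (hpull b F p e) := fun p e =>
    (H1DFun.hpullVia_eq π i c hc' F p e).trans (H1DFun.hpullVia_eq j b c hc F p e).symm
  have hex₂ : ∀ p, Function.Exact (Sheaf.H.map S.f p) (hpull i F p) := fun p e => by
    rw [← hZ p e, map_eq_zero_iff _ (TZ p).injective]
    exact exact_H₂ hS p e
  have hex₂' : ∀ p, Function.Exact (Sheaf.H.map (S.map (EtCoh.pull b)).f p) (EtCore.HpullVia j b c hc F p) :=
    fun p e => by
      rw [← hE p e, map_eq_zero_iff _ (TE p).injective]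
      exact exact_H₂ hS' p e
  let d : ∀ p, Sheaf.H ((EtCoh.pull i).obj F) p →+ Sheaf.H (kernel u) (p + 1) := fun p =>
    (delta hS p).comp (TZ p).symm.toAddMonoidHom
  let d' : ∀ p, Sheaf.H ((EtCoh.pull c).obj F) p →+ Sheaf.H ((EtCoh.pull b).obj (kernel u)) (p + 1) := fun p =>
    (delta hS' p).comp (TE p).symm.toAddMonoidHom
  have hex₃ : ∀ p, Function.Exact (hpull i F p) (d p) := fun p y => by
    refine (exact_H₃ hS p ((TZ p).symm y)).trans ⟨?_, ?_⟩
    · rintro ⟨e, he⟩
      exact ⟨e, (hZ p e).symm.trans ((congrArg (TZ p) he).trans ((TZ p).apply_symm_apply y))⟩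
    · rintro ⟨e, he⟩
      exact ⟨e, by rw [← he, ← hZ p e, AddEquiv.symm_apply_apply]⟩
  have hex₃' : ∀ p, Function.Exact (EtCore.HpullVia j b c hc F p) (d' p) := fun p y => by
    refine (exact_H₃ hS' p ((TE p).symm y)).trans ⟨?_, ?_⟩
    · rintro ⟨e, he⟩
      exact ⟨e, (hE p e).symm.trans ((congrArg (TE p) he).trans ((TE p).apply_symm_apply y))⟩
    · rintro ⟨e, he⟩
      exact ⟨e, (AddEquiv.symm_apply_apply _ _).symm.trans (congrArg (TE p).symm ((hE p e).trans he))⟩
  have hex₁ : ∀ p, Function.Exact (d p) (Sheaf.H.map S.f (p + 1)) := fun p y => by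
    refine (exact_H₁ hS p y).trans ?_
    constructor
    · rintro ⟨w, rfl⟩; exact ⟨TZ p w, congrArg (delta hS p) ((TZ p).symm_apply_apply w)⟩
    · rintro ⟨w, rfl⟩; exact ⟨_, rfl⟩
  have hex₁' : ∀ p, Function.Exact (d' p) (Sheaf.H.map (S.map (EtCoh.pull b)).f (p + 1)) := fun p y => by
    refine (exact_H₁ hS' p y).trans ?_
    constructor
    · rintro ⟨w, rfl⟩; exact ⟨TE p w, congrArg (delta hS' p) ((TE p).symm_apply_apply w)⟩
    · rintro ⟨w, rfl⟩; exact ⟨_, rfl⟩
  have c₃ : ∀ p (y : Sheaf.H ((EtCoh.pull i).obj F) p),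
      βG (p + 1) (d p y) = d' p (EtCore.HpullVia π i c hc' F p y) := fun p y => by
    obtain ⟨w, rfl⟩ := (TZ p).surjective y
    show hpull b (kernel u) (p + 1) (delta hS p ((TZ p).symm (TZ p w))) =
      delta hS' p ((TE p).symm (EtCore.HpullVia π i c hc' F p (TZ p w)))
    rw [hEZ, AddEquiv.symm_apply_apply, AddEquiv.symm_apply_apply]
    exact Hpull_extClass b hS p w
  exact ⟨fun p => conn (Sheaf.H.map S.f (p + 1)) (d' p) (βG (p + 1)),
    injective_pair _ _ _ (βG 0) (hpull b F 0) (hex₂ 0) (injective_H₀ hS') (c₁ 0), fun p =>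
    ⟨exact_pair _ _ (d p) _ _ (d' p) (βG p) (hpull b F p) _ (βG (p + 1)) (hex₂ p) (hex₃ p) (hex₂' p) (hex₃' p)
        (c₁ p) (c₂ p) (c₃ p),
      exact_conn (d p) _ _ (d' p) _ (βG (p + 1)) (hex₁ p) (hex₃' p) (c₃ p),
      exact_next _ _ (d' p) _ (βG (p + 1)) (hpull b F (p + 1)) (hex₂ (p + 1)) (hex₁' p) (c₁ (p + 1))⟩⟩

end Groth.Agent.H15Site.BlowSquare
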