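import Groth.Agent.H18Et.Germ
import Groth.Agent.H18Et.BaseChange
import Mathlib.AlgebraicGeometry.Morphisms.Etale

/-!
# The unit of pullback and push is invertible at points over which a morphism is an isomorphism

Let `b : Y ⟶ X` and `U'` an open of `Y` such that `U' ⟶ X` is an open immersion and no point outside `U'`
has the image of a point of `U'`. At a geometric point of `U'` the unit `F ⟶ b_* b^* F` is bijective on stalks.
-/

set_option autoImplicit false
set_option linter.style.haveILetI false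
set_option linter.unusedSectionVars false
set_option backward.isDefEq.respectTransparency false
set_option backward.isDefEq.respectTransparency.types false

universe u

open CategoryTheory CategoryTheory.Limits AlgebraicGeometry Opposite
open scoped Groth.Agent.H18Et

namespace Groth.Agent.H15Site.BlowSquare

open Groth.Agent.H18Et

variable {X Y : Scheme.{u}} (b : Y ⟶ X) (U' : Y.Opens) [IsOpenImmersion (U'.ι ≫ b)]
  (hU : ∀ y y' : Y, y' ∈ U' → b y = b y' → y = y')

include hU in
/-- The unit is bijective on stalks at points of `U'`. -/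
theorem bijective_stalk_unit_of_openOver {Ω : Type u} [Field Ω] [IsSepClosed Ω]
    (η : Spec (CommRingCat.of Ω) ⟶ Y) (hη : η default ∈ U') (F : EtCoh.Ab X) :
    Function.Bijective ((EtCoh.stalk (η ≫ b)).map ((EtCoh.pullPushAdj b).unit.app F)) := by
  let u : F ⟶ (EtCoh.push b).obj ((EtCoh.pull b).obj F) := (EtCoh.pullPushAdj b).unit.app F
  refine ⟨?_, fun p => ?_⟩
  · have h2 := congrArg (EtCoh.stalk η).map ((EtCoh.pullPushAdj b).left_triangle_components F)
    rw [Functor.map_comp, CategoryTheory.Functor.map_id] at h2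
    have hinj : Function.Injective ((EtCoh.stalk η).map ((EtCoh.pull b).map u)) :=
      Function.LeftInverse.injective (g := (EtCoh.stalk η).map ((EtCoh.pullPushAdj b).counit.app _))
        fun x => ConcreteCategory.congr_hom h2 x
    have hn : ∀ x, (stalkPullIso b η).hom.app _ ((EtCoh.stalk η).map ((EtCoh.pull b).map u) x) =
        (EtCoh.stalk (η ≫ b)).map u ((stalkPullIso b η).hom.app _ x) := fun x =>
      ConcreteCategory.congr_hom ((stalkPullIso b η).hom.naturality u) x
    intro x y hxy
    obtain ⟨x, rfl⟩ := (ConcreteCategory.bijective_of_isIso ((stalkPullIso b η).hom.app F)).2 x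
    obtain ⟨y, rfl⟩ := (ConcreteCategory.bijective_of_isIso ((stalkPullIso b η).hom.app F)).2 y
    replace hxy : _ = _ := (hn x).trans (hxy.trans (hn y).symm)
    exact congrArg _ (hinj ((ConcreteCategory.bijective_of_isIso ((stalkPullIso b η).hom.app _)).1 hxy))
  · obtain ⟨V, z, s, rfl⟩ := H18Et.germ_surjective (η ≫ b) ((EtCoh.push b).obj ((EtCoh.pull b).obj F)) p
    let G := (EtCoh.pull b).obj F
    let y := (fiberCompIso b η).inv.app V z
    let q : (EtCoh.stalk η).obj G := H18Et.germ η G ((EtCoh.bc b).obj V) y s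
    obtain ⟨g₀, hg₀⟩ := (ConcreteCategory.bijective_of_isIso ((stalkPullIso b η).inv.app F)).2 q
    obtain ⟨V₁, z₁, t, rfl⟩ := H18Et.germ_surjective (η ≫ b) F g₀
    rw [stalkPullIso_inv_germ] at hg₀
    let y₁ := (fiberCompIso b η).inv.app V₁ z₁
    obtain ⟨⟨W₀, w₀⟩, ⟨a₀, ha₀⟩, ⟨c₀, hc₀⟩, -⟩ := IsCofilteredOrEmpty.cone_objs
      (C := (Scheme.pointSmallEtale η).fiber.Elements) ⟨(EtCoh.bc b).obj V, y⟩ ⟨(EtCoh.bc b).obj V₁, y₁⟩
    dsimp at a₀ c₀ ha₀ hc₀
    have h1 : H18Et.germ η G W₀ w₀ (G.obj.map a₀.op s) = q := by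
      refine ((Scheme.pointSmallEtale η).toPresheafFiber_w_apply a₀ w₀ G.obj s).trans ?_
      rw [ha₀]; rfl
    have h2 : H18Et.germ η G W₀ w₀ (G.obj.map c₀.op (u.hom.app (op V₁) t)) = q := by
      refine ((Scheme.pointSmallEtale η).toPresheafFiber_w_apply c₀ w₀ G.obj _).trans ?_
      rw [hc₀]; exact hg₀
    obtain ⟨W, d, w, hw, heq⟩ := (H18Et.germ_eq_iff η G W₀ w₀ _ _).1 (h1.trans h2.symm)
    let a := d ≫ a₀
    let c := d ≫ c₀
    have ha : (Scheme.pointSmallEtale η).fiber.map a w = y := by
      rw [Functor.map_comp_apply, hw, ha₀]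
    have hc : (Scheme.pointSmallEtale η).fiber.map c w = y₁ := by
      rw [Functor.map_comp_apply, hw, hc₀]
    have hac : G.obj.map a.op s = G.obj.map c.op (u.hom.app (op V₁) t) := by
      simp only [a, c, op_comp, Functor.map_comp, ConcreteCategory.comp_apply]
      exact heq
    -- the neighbourhood downstairs
    haveI : Etale W.hom := W.prop
    let Wo := W.hom ⁻¹ᵁ U'
    let φ : (Wo : Scheme.{u}) ⟶ X := Wo.ι ≫ W.hom ≫ b
    have hφ : φ = (W.hom ∣_ U') ≫ (U'.ι ≫ b) := by
      rw [← Category.assoc, morphismRestrict_ι, Category.assoc]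
    haveI : Etale φ := by
      rw [hφ]
      haveI : Etale (W.hom ∣_ U') := inferInstance
      haveI : Etale (U'.ι ≫ b) := inferInstance
      infer_instance
    let W' : X.Etale := MorphismProperty.Over.mk ⊤ φ ‹Etale φ›
    have bw : ∀ (V : X.Etale) (e : W ⟶ (EtCoh.bc b).obj V),
        (Wo.ι ≫ e.left ≫ pullback.fst V.hom b) ≫ V.hom = φ := fun V e => by
      have he : e.left ≫ pullback.snd V.hom b = W.hom := MorphismProperty.Over.w e
      rw [Category.assoc, Category.assoc, pullback.condition, ← Category.assoc e.left, he]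
    let mk : ∀ (V : X.Etale), (W ⟶ (EtCoh.bc b).obj V) → (W' ⟶ V) := fun V e =>
      MorphismProperty.Over.homMk (Wo.ι ≫ e.left ≫ pullback.fst V.hom b) (bw V e) trivial
    have hmono : ∀ {T : Scheme.{u}} (p r : T ⟶ Y), (∀ x, r x ∈ U') → p ≫ b = r ≫ b → p = r := by
      intro T p r hr hpr
      have hp : ∀ x, p x ∈ U' := fun x => by
        have := hU (p x) (r x) (hr x) (by rw [← Scheme.Hom.comp_apply, hpr]; rfl)
        exact this ▸ hr x
      have hp' : Set.range p ⊆ Set.range U'.ι := by
        rintro _ ⟨x, rfl⟩; rw [U'.range_ι]; exact hp x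
      have hr' : Set.range r ⊆ Set.range U'.ι := by
        rintro _ ⟨x, rfl⟩; rw [U'.range_ι]; exact hr x
      rw [← IsOpenImmersion.lift_fac U'.ι p hp', ← IsOpenImmersion.lift_fac U'.ι r hr'] at hpr ⊢
      rw [Category.assoc, Category.assoc] at hpr
      rw [(cancel_mono (U'.ι ≫ b)).1 hpr]
    have hk : (pullback.fst φ b ≫ Wo.ι) ≫ W.hom = pullback.snd φ b := by
      refine (hmono _ _ (fun x => ?_) ?_).symm
      · show W.hom (Wo.ι (pullback.fst φ b x)) ∈ U'
        exact (pullback.fst φ b x).2
      · exact pullback.condition.symm.trans (by simp only [φ, Category.assoc])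
    let k : (EtCoh.bc b).obj W' ⟶ W := MorphismProperty.Over.homMk (pullback.fst φ b ≫ Wo.ι) hk trivial
    have hkc : ∀ (V : X.Etale) (e : W ⟶ (EtCoh.bc b).obj V), k ≫ e = (EtCoh.bc b).map (mk V e) := fun V e => by
      refine MorphismProperty.Over.Hom.ext ?_
      refine pullback.hom_ext ?_ ?_
      · refine Eq.trans ?_ (pullback.lift_fst _ _ _).symm
        show ((pullback.fst φ b ≫ Wo.ι) ≫ e.left) ≫ pullback.fst V.hom b = _
        simp only [Category.assoc]
        rfl
      · refine Eq.trans ?_ (MorphismProperty.Over.w ((EtCoh.bc b).map (mk V e))).symm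
        exact MorphismProperty.Over.w (k ≫ e)
    -- the point of the neighbourhood
    let w₁ : Spec (CommRingCat.of Ω) ⟶ W.left := w.left
    have hw₁ : w₁ ≫ W.hom = η := Over.w w
    have hrange : Set.range w₁ ⊆ Set.range Wo.ι := by
      rintro _ ⟨x, rfl⟩
      rw [Wo.range_ι, Subsingleton.elim x default]
      show W.hom (w₁ default) ∈ U'
      exact (show (w₁ ≫ W.hom) default ∈ U' by rw [hw₁]; exact hη)
    let l := IsOpenImmersion.lift Wo.ι w₁ hrange
    let z' : (Scheme.pointSmallEtale (η ≫ b)).fiber.obj W' := Over.homMk l (by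
      show l ≫ Wo.ι ≫ W.hom ≫ b = η ≫ b
      rw [← Category.assoc, IsOpenImmersion.lift_fac, ← Category.assoc, hw₁])
    have hz : ∀ (V : X.Etale) (e : W ⟶ (EtCoh.bc b).obj V) (zV : (Scheme.pointSmallEtale (η ≫ b)).fiber.obj V),
        (Scheme.pointSmallEtale η).fiber.map e w = (fiberCompIso b η).inv.app V zV →
        (Scheme.pointSmallEtale (η ≫ b)).fiber.map (mk V e) z' = zV := fun V e zV he => by
      refine Over.OverMorphism.ext ?_
      show l ≫ Wo.ι ≫ e.left ≫ pullback.fst V.hom b = _
      rw [← Category.assoc, IsOpenImmersion.lift_fac, ← Category.assoc]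
      refine (congrArg (· ≫ pullback.fst V.hom b) (congrArg (fun r => r.left) he)).trans ?_
      exact fiberCompIso_inv_left b η V zV
    refine ⟨H18Et.germ (η ≫ b) F W' z' (F.obj.map (mk V₁ c).op t), ?_⟩
    refine (H18Et.germ_naturality (η ≫ b) u W' z' _).trans ?_
    have e1 : u.hom.app (op W') (F.obj.map (mk V₁ c).op t) =
        ((EtCoh.push b).obj G).obj.map (mk V a).op s := by
      refine (ConcreteCategory.congr_hom (u.hom.naturality (mk V₁ c).op) t).trans ?_
      show G.obj.map ((EtCoh.bc b).map (mk V₁ c)).op (u.hom.app (op V₁) t) = G.obj.map ((EtCoh.bc b).map (mk V a)).op s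
      rw [← hkc V₁ c, ← hkc V a]
      simp only [op_comp, Functor.map_comp, ConcreteCategory.comp_apply]
      rw [hac]
    rw [e1]
    refine ((Scheme.pointSmallEtale (η ≫ b)).toPresheafFiber_w_apply (mk V a) z'
      ((EtCoh.push b).obj G).obj s).trans ?_
    rw [hz V a z ha]
    rfl

end Groth.Agent.H15Site.BlowSquare
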